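import Cfsg.Agent.Lib.H93.TCE24A.Chk
set_option Elab.async false
set_option autoImplicit false
set_option maxRecDepth 100000
set_option linter.all false
namespace H93.TCE24A
open H35.TC
theorem r_280 : allB chkP 10 286720 = true := by decide +kernel
theorem r_281 : allB chkP 10 287744 = true := by decide +kernel
theorem r_282 : allB chkP 10 288768 = true := by decide +kernel
theorem r_283 : allB chkP 10 289792 = true := by decide +kernel
theorem r_284 : allB chkP 10 290816 = true := by decide +kernel
theorem r_285 : allB chkP 10 291840 = true := by decide +kernel
theorem r_286 : allB chkP 10 292864 = true := by decide +kernel
theorem r_287 : allB chkP 10 293888 = true := by decide +kernel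
theorem r_288 : allB chkP 10 294912 = true := by decide +kernel
theorem r_289 : allB chkP 10 295936 = true := by decide +kernel
theorem r_290 : allB chkP 10 296960 = true := by decide +kernel
theorem r_291 : allB chkP 10 297984 = true := by decide +kernel
theorem r_292 : allB chkP 10 299008 = true := by decide +kernel
theorem r_293 : allB chkP 10 300032 = true := by decide +kernel
theorem r_294 : allB chkP 10 301056 = true := by decide +kernel
theorem r_295 : allB chkP 10 302080 = true := by decide +kernel
theorem r_296 : allB chkP 10 303104 = true := by decide +kernel
theorem r_297 : allB chkP 10 304128 = true := by decide +kernel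
theorem r_298 : allB chkP 10 305152 = true := by decide +kernel
theorem r_299 : allB chkP 10 306176 = true := by decide +kernel
end H93.TCE24A
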