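import Cfsg.Agent.Lib.H93.TCE24A.Chk
set_option Elab.async false
set_option autoImplicit false
set_option maxRecDepth 100000
set_option linter.all false
namespace H93.TCE24A
open H35.TC
theorem r_80 : allB chkP 10 81920 = true := by decide +kernel
theorem r_81 : allB chkP 10 82944 = true := by decide +kernel
theorem r_82 : allB chkP 10 83968 = true := by decide +kernel
theorem r_83 : allB chkP 10 84992 = true := by decide +kernel
theorem r_84 : allB chkP 10 86016 = true := by decide +kernel
theorem r_85 : allB chkP 10 87040 = true := by decide +kernel
theorem r_86 : allB chkP 10 88064 = true := by decide +kernel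
theorem r_87 : allB chkP 10 89088 = true := by decide +kernel
theorem r_88 : allB chkP 10 90112 = true := by decide +kernel
theorem r_89 : allB chkP 10 91136 = true := by decide +kernel
theorem r_90 : allB chkP 10 92160 = true := by decide +kernel
theorem r_91 : allB chkP 10 93184 = true := by decide +kernel
theorem r_92 : allB chkP 10 94208 = true := by decide +kernel
theorem r_93 : allB chkP 10 95232 = true := by decide +kernel
theorem r_94 : allB chkP 10 96256 = true := by decide +kernel
theorem r_95 : allB chkP 10 97280 = true := by decide +kernel
theorem r_96 : allB chkP 10 98304 = true := by decide +kernel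
theorem r_97 : allB chkP 10 99328 = true := by decide +kernel
theorem r_98 : allB chkP 10 100352 = true := by decide +kernel
theorem r_99 : allB chkP 10 101376 = true := by decide +kernel
end H93.TCE24A
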