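import Cfsg.Agent.Lib.H93.TCE24A.Chk
set_option Elab.async false
set_option autoImplicit false
set_option maxRecDepth 100000
set_option linter.all false
namespace H93.TCE24A
open H35.TC
theorem r_120 : allB chkP 10 122880 = true := by decide +kernel
theorem r_121 : allB chkP 10 123904 = true := by decide +kernel
theorem r_122 : allB chkP 10 124928 = true := by decide +kernel
theorem r_123 : allB chkP 10 125952 = true := by decide +kernel
theorem r_124 : allB chkP 10 126976 = true := by decide +kernel
theorem r_125 : allB chkP 10 128000 = true := by decide +kernel
theorem r_126 : allB chkP 10 129024 = true := by decide +kernel
theorem r_127 : allB chkP 10 130048 = true := by decide +kernel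
theorem r_128 : allB chkP 10 131072 = true := by decide +kernel
theorem r_129 : allB chkP 10 132096 = true := by decide +kernel
theorem r_130 : allB chkP 10 133120 = true := by decide +kernel
theorem r_131 : allB chkP 10 134144 = true := by decide +kernel
theorem r_132 : allB chkP 10 135168 = true := by decide +kernel
theorem r_133 : allB chkP 10 136192 = true := by decide +kernel
theorem r_134 : allB chkP 10 137216 = true := by decide +kernel
theorem r_135 : allB chkP 10 138240 = true := by decide +kernel
theorem r_136 : allB chkP 10 139264 = true := by decide +kernel
theorem r_137 : allB chkP 10 140288 = true := by decide +kernel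
theorem r_138 : allB chkP 10 141312 = true := by decide +kernel
theorem r_139 : allB chkP 10 142336 = true := by decide +kernel
end H93.TCE24A
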